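import Cfsg.Agent.H41.CoSec.Basic

/-!
A faster kernel check of word equalities in Co0: the sextet step is evaluated on literal tetrads.
-/

set_option autoImplicit false

namespace Cfsg.Agent.H95.CoFast

open Cfsg Cfsg.Agent.Golay Cfsg.Agent.H92 Cfsg.Agent.H92.LeechOrbit Cfsg.Agent.H41.CoSec

/-- The tetrads. -/
def tets : List (ℕ × List ℕ) :=
  [(0, [0, 1, 2, 23]), (1, [3, 5, 14, 17]), (2, [8, 11, 12, 18]), (3, [9, 10, 15, 20]),
    (4, [6, 7, 19, 21]), (5, [4, 13, 16, 22])]

/-- A field. -/
noncomputable def fldF (n i : ℕ) : ℕ := Nat.land (Nat.shiftRight n (Nat.mul 4 i)) 15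

/-- Half the sum over some fields. -/
noncomputable def halfF (n : ℕ) (P : List ℕ) : ℕ :=
  Nat.div (List.rec (motive := fun _ => ℕ) 0 (fun i _ acc => Nat.add (fldF n i) acc) P) 2

/-- One field of a sextet step. -/
noncomputable def fldOK (n m : ℕ) (tp : ℕ × List ℕ) (i : ℕ) : Bool :=
  bif Nat.beq tp.1 0 then Nat.beq (Nat.add (fldF m i) (halfF n tp.2)) (Nat.add 16 (fldF n i))
    else Nat.beq (Nat.add (fldF m i) (fldF n i)) (halfF n tp.2)

/-- One tetrad of a sextet step. -/
noncomputable def tetOK (n m : ℕ) (tp : ℕ × List ℕ) : Bool :=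
  List.rec (motive := fun _ => Bool) true (fun i _ a => bif fldOK n m tp i then a else false) tp.2

/-- The relation of a sextet step. -/
noncomputable def zOK (n m : ℕ) : Bool :=
  List.rec (motive := fun _ => Bool) true (fun tp _ acc => tetOK n m tp && acc) tets

/-- The image under a sextet step. -/
noncomputable def zApp (n : ℕ) : ℕ :=
  List.rec (motive := fun _ => ℕ) 0 (fun tp _ acc =>
    List.rec (motive := fun _ => ℕ) acc (fun i _ a => Nat.add a (Nat.shiftLeft
      (bif Nat.beq tp.1 0 then Nat.sub (Nat.add 16 (fldF n i)) (halfF n tp.2)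
        else Nat.sub (halfF n tp.2) (fldF n i)) (Nat.mul 4 i))) tp.2) tets

lemma fldF_eq (n i : ℕ) : fldF n i = fld n i := rfl

lemma halfF_eq (n : ℕ) (P : List ℕ) : halfF n P = (P.map fun i => fld n i).sum / 2 := by
  have h : ∀ Q : List ℕ, (List.rec (motive := fun _ => ℕ) 0
      (fun i _ acc => Nat.add (fldF n i) acc) Q : ℕ) = (Q.map fun i => fld n i).sum := by
    intro Q
    induction Q with
    | nil => rfl
    | cons a Q ih => rw [List.map_cons, List.sum_cons, ← ih]; rfl
  rw [halfF, h]; rfl

lemma tets_spec : (∀ tp ∈ tets, tp.2 = tetPts tp.1) ∧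
    ∀ i < 24, ∃ tp ∈ tets, i ∈ tp.2 ∧ tp.1 = tetOf i := by
  decide +kernel

lemma rec_and {α : Type} (f : α → Bool) : ∀ L : List α,
    (List.rec (motive := fun _ => Bool) true (fun i _ a => bif f i then a else false) L : Bool) = true →
      ∀ i ∈ L, f i = true
  | [], _, i, hi => by simp at hi
  | a :: L, h, i, hi => by
    change (bif f a then _ else false) = true at h
    cases hfa : f a
    · rw [hfa] at h; exact Bool.noConfusion h
    · rw [hfa, cond_true] at h
      rcases List.mem_cons.1 hi with rfl | hi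
      · exact hfa
      · exact rec_and f L h i hi

lemma rec_and' {α : Type} (f : α → Bool) : ∀ L : List α,
    (List.rec (motive := fun _ => Bool) true (fun i _ a => f i && a) L : Bool) = true →
      ∀ i ∈ L, f i = true
  | [], _, i, hi => by simp at hi
  | a :: L, h, i, hi => by
    change (f a && _) = true at h
    rw [Bool.and_eq_true] at h
    rcases List.mem_cons.1 hi with rfl | hi
    · exact h.1
    · exact rec_and' f L h.2 i hi

lemma zetaRel_of_zOK {n m : ℕ} (h : zOK n m = true) : zetaRel n m = true := by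
  rw [zetaRel, List.all_eq_true]
  intro i hi
  obtain ⟨tp, htp, hmem, ht⟩ := tets_spec.2 i (List.mem_range.1 hi)
  have h2 := rec_and (fldOK n m tp) tp.2 (rec_and' (tetOK n m) tets h tp htp) i hmem
  unfold fldOK at h2
  rw [halfF_eq, tets_spec.1 tp htp] at h2
  rw [← ht]
  simp only [fldF_eq] at h2
  change (bif tp.1 == 0 then fld m i + LeechOrbit.tsum n tp.1 / 2 == 16 + fld n i
    else fld m i + fld n i == LeechOrbit.tsum n tp.1 / 2) = true
  unfold LeechOrbit.tsum
  by_cases h0 : tp.1 = 0
  · simp only [h0, Nat.beq_refl, cond_true, Nat.add_eq, Nat.beq_eq] at h2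
    simpa [h0] using h2
  · have e : Nat.beq tp.1 0 = false :=
      Bool.eq_false_iff.2 fun hb => h0 (Nat.eq_of_beq_eq_true hb)
    simp only [e, cond_false, Nat.add_eq, Nat.beq_eq] at h2
    simpa [h0] using h2

/-- A step. -/
noncomputable def stepOK : Atom → ℕ → ℕ → Bool
  | .mono _ S T, n, m => monoRel S T n m
  | .zeta, n, m => zOK n m

/-- The image under a step. -/
noncomputable def stepApp : Atom → ℕ → ℕ
  | .mono _ S T, n => monoApp S T n
  | .zeta, n => zApp n

/-- The image of a code under a word. -/
noncomputable def runF : List Atom → ℕ → ℕ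
  | [], n => n
  | a :: r, n => runF r (stepApp a n)

/-- A word carries one code to another. -/
noncomputable def chkF : List Atom → ℕ → ℕ → Bool
  | [], n, m => Nat.beq n m
  | a :: r, n, m => stepOK a n (stepApp a n) && chkF r (stepApp a n) m

lemma rel_of_stepOK : ∀ {a : Atom} {n m : ℕ}, stepOK a n m = true → rel a n m = true
  | .mono _ _ _, _, _, h => h
  | .zeta, _, _, h => zetaRel_of_zOK h

lemma chkF_sound : ∀ {w : List Atom} {n m : ℕ}, w.all atomOK = true → chkF w n m = true →
    ∀ {v : leechLattice}, v.1 = dec n → (wordEl w • v : leechLattice).1 = dec m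
  | [], n, m, _, h, v, hv => by
    rw [chkF, Nat.beq_eq] at h
    rw [wordEl, one_smul, hv, h]
  | a :: r, n, m, hok, h, v, hv => by
    rw [List.all_cons, Bool.and_eq_true] at hok
    rw [chkF, Bool.and_eq_true] at h
    rw [wordEl, mul_smul]
    exact chkF_sound hok.2 h.2 (rel_sound hok.1 (rel_of_stepOK h.1) hv)

/-- Two words agree on the lattice generators. -/
noncomputable def eqF (u v : List Atom) : Bool :=
  CoTwo.genCodes.all fun n => chkF u n (runF u n) && chkF v n (runF u n)

/-- Equal words. -/
theorem eq_of_eqF {u v : List Atom} (hu : u.all atomOK = true) (hv : v.all atomOK = true)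
    (h : eqF u v = true) : wordEl u = wordEl v := by
  simp only [eqF, Bool.and_eq_true, List.all_eq_true] at h
  refine (inv_mul_eq_one.1 (CoTwo.eq_one_of_gens fun n hn' x hx => ?_)).symm
  have e1 := chkF_sound hu (h n hn').1 hx
  have e2 := chkF_sound hv (h n hn').2 hx
  rw [mul_smul, inv_smul_eq_iff]
  exact Subtype.ext (e1.trans e2.symm)

/-- Words are multiplied backwards. -/
theorem wordEl_flatten : ∀ L : List (List Atom),
    wordEl L.flatten = (L.reverse.map wordEl).prod
  | [] => rfl
  | x :: L => by
    rw [List.flatten_cons, CoTwo.wordEl_append, wordEl_flatten L, List.reverse_cons,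
      List.map_append, List.prod_append, List.map_singleton, List.prod_singleton]

theorem all_atomOK_flatten {L : List (List Atom)} (h : ∀ w ∈ L, w.all atomOK = true) :
    L.flatten.all atomOK = true := by
  rw [List.all_eq_true]
  intro a ha
  obtain ⟨w, hw, hm⟩ := List.mem_flatten.1 ha
  exact List.all_eq_true.1 (h w hw) a hm

end Cfsg.Agent.H95.CoFast
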